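import Cfsg.Prelude.Def_Classical
import Mathlib

/-!
Embeddings of `SL₂`, `SL_m` and alternating groups into the classical groups of `Def_Classical`, and crude
bounds on the orders of those groups.
-/

set_option autoImplicit false

namespace Cfsg.Agent.Lib.ClassicalEmb

open Matrix

variable (F : Type*) [Field F]

section Linear

/-- The equivalence `Fin 2 ⊕ Fin (n - 2) ≃ Fin n`. -/
def padEquiv {n : ℕ} (hn : 2 ≤ n) : Fin 2 ⊕ Fin (n - 2) ≃ Fin n :=
  finSumFinEquiv.trans (finCongr (by omega))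

/-- `A ↦ A ⊕ 1`, from `2 × 2` to `n × n` matrices. -/
noncomputable def padMat {n : ℕ} (hn : 2 ≤ n) :
    Matrix (Fin 2) (Fin 2) F →* Matrix (Fin n) (Fin n) F where
  toFun A := Matrix.reindexAlgEquiv F F (padEquiv hn) (fromBlocks A 0 0 1)
  map_one' := by rw [fromBlocks_one, map_one]
  map_mul' A B := by rw [← map_mul, fromBlocks_multiply]; simp

theorem padMat_injective {n : ℕ} (hn : 2 ≤ n) : Function.Injective (padMat F hn) := fun A B h => by
  have := (fromBlocks_inj.1 ((Matrix.reindexAlgEquiv F F (padEquiv hn)).injective h)).1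
  exact this

/-- `SL₂ → SL_n`. -/
noncomputable def padSL {n : ℕ} (hn : 2 ≤ n) :
    Matrix.SpecialLinearGroup (Fin 2) F →* Matrix.SpecialLinearGroup (Fin n) F where
  toFun A := ⟨padMat F hn A, by
    show (Matrix.reindexAlgEquiv F F (padEquiv hn) _).det = 1
    rw [Matrix.det_reindexAlgEquiv, det_fromBlocks_zero₂₁, det_one, mul_one]
    exact A.2⟩
  map_one' := Subtype.ext (by simp)
  map_mul' A B := Subtype.ext (map_mul (padMat F hn) A.1 B.1)

theorem padSL_injective {n : ℕ} (hn : 2 ≤ n) : Function.Injective (padSL F hn) := fun _ _ h =>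
  Subtype.ext (padMat_injective F hn (congrArg Subtype.val h))

/-- Permutation matrices: `A_n → SL_n`. -/
noncomputable def altSL (n : ℕ) : alternatingGroup (Fin n) →* Matrix.SpecialLinearGroup (Fin n) F where
  toFun σ := ⟨((σ : Equiv.Perm (Fin n))⁻¹).permMatrix F, by
    rw [Matrix.det_permutation, map_inv, Equiv.Perm.mem_alternatingGroup.mp σ.2]; simp⟩
  map_one' := Subtype.ext (by simp)
  map_mul' a b := Subtype.ext (by
    show ((↑(a * b) : Equiv.Perm (Fin n))⁻¹).permMatrix F =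
      ((a : Equiv.Perm (Fin n))⁻¹).permMatrix F * ((b : Equiv.Perm (Fin n))⁻¹).permMatrix F
    rw [Subgroup.coe_mul, _root_.mul_inv_rev, Matrix.permMatrix_mul])

theorem altSL_injective (n : ℕ) : Function.Injective (altSL F n) := fun a b h => by
  have h' : ((a : Equiv.Perm (Fin n))⁻¹).permMatrix F = ((b : Equiv.Perm (Fin n))⁻¹).permMatrix F :=
    congrArg Subtype.val h
  refine Subtype.ext (inv_injective (Equiv.ext fun i => ?_))
  have h2 := congrFun (congrFun h' i) ((a : Equiv.Perm (Fin n))⁻¹ i)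
  simp [Equiv.Perm.permMatrix, PEquiv.toMatrix_apply] at h2
  exact h2.symm

end Linear

section Doubled

/-- `A ↦ A ⊕ (A⁻¹)ᵀ`. -/
noncomputable def doubleMat (m : ℕ) :
    Matrix.SpecialLinearGroup (Fin m) F →* Matrix (Fin m ⊕ Fin m) (Fin m ⊕ Fin m) F where
  toFun A := fromBlocks A.1 0 0 (A⁻¹).1ᵀ
  map_one' := by simp
  map_mul' A B := by
    rw [fromBlocks_multiply]
    simp [Matrix.adjugate_mul_distrib, Matrix.transpose_mul]

theorem doubleMat_injective (m : ℕ) : Function.Injective (doubleMat F m) := fun _ _ h =>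
  Subtype.ext (fromBlocks_inj.1 h).1

theorem inv_mul_val {m : ℕ} (A : Matrix.SpecialLinearGroup (Fin m) F) : (A⁻¹).1 * A.1 = 1 := by
  rw [← Matrix.SpecialLinearGroup.coe_mul, inv_mul_cancel, Matrix.SpecialLinearGroup.coe_one]

theorem mul_inv_val {m : ℕ} (A : Matrix.SpecialLinearGroup (Fin m) F) : A.1 * (A⁻¹).1 = 1 := by
  rw [← Matrix.SpecialLinearGroup.coe_mul, mul_inv_cancel, Matrix.SpecialLinearGroup.coe_one]

theorem doubleMat_symplectic (m : ℕ) (A : Matrix.SpecialLinearGroup (Fin m) F) :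
    doubleMat F m A ∈ Matrix.symplecticGroup (Fin m) F := by
  rw [SymplecticGroup.mem_iff]
  show fromBlocks A.1 0 0 (A⁻¹).1ᵀ * Matrix.J (Fin m) F * (fromBlocks A.1 0 0 (A⁻¹).1ᵀ)ᵀ = _
  rw [Matrix.J, fromBlocks_transpose, fromBlocks_multiply, fromBlocks_multiply]
  have h1 := mul_inv_val F A
  have h2 := congrArg Matrix.transpose h1
  rw [Matrix.transpose_mul, Matrix.transpose_one] at h2
  simp only [Matrix.mul_zero, Matrix.zero_mul, add_zero, zero_add, Matrix.transpose_zero,
    Matrix.transpose_transpose, Matrix.mul_one, Matrix.mul_neg, Matrix.neg_mul, h1, h2, neg_zero]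

/-- `SL_m → Sp_{2m}`. -/
noncomputable def slSp (m : ℕ) :
    Matrix.SpecialLinearGroup (Fin m) F →* ↥(Matrix.symplecticGroup (Fin m) F) :=
  (doubleMat F m).codRestrict _ (doubleMat_symplectic F m)

theorem slSp_injective (m : ℕ) : Function.Injective (slSp F m) := fun _ _ h =>
  doubleMat_injective F m (congrArg Subtype.val h)

theorem hyperbolic_invariant (m : ℕ) (A : Matrix.SpecialLinearGroup (Fin m) F)
    (v : Fin m ⊕ Fin m → F) :
    ∑ i, (doubleMat F m A *ᵥ v) (.inl i) * (doubleMat F m A *ᵥ v) (.inr i) =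
      ∑ i, v (.inl i) * v (.inr i) := by
  show ∑ i, (fromBlocks A.1 0 0 (A⁻¹).1ᵀ *ᵥ v) (.inl i) * (fromBlocks A.1 0 0 (A⁻¹).1ᵀ *ᵥ v) (.inr i) = _
  simp only [fromBlocks_mulVec, Matrix.zero_mulVec, add_zero, zero_add, Sum.elim_inl, Sum.elim_inr]
  show (A.1 *ᵥ (v ∘ Sum.inl)) ⬝ᵥ ((A⁻¹).1ᵀ *ᵥ (v ∘ Sum.inr)) = (v ∘ Sum.inl) ⬝ᵥ (v ∘ Sum.inr)
  rw [Matrix.mulVec_transpose, dotProduct_comm, ← Matrix.dotProduct_mulVec, Matrix.mulVec_mulVec,
    inv_mul_val, Matrix.one_mulVec, dotProduct_comm]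

/-- `SL_m → O⁺_{2m}`. -/
noncomputable def slPlus (m : ℕ) :
    Matrix.SpecialLinearGroup (Fin m) F →* ↥(isometryGroup F (quadFormPlus m F)) :=
  (doubleMat F m).toHomUnits.codRestrict _ fun A u _ => hyperbolic_invariant F m A u

theorem slPlus_injective (m : ℕ) : Function.Injective (slPlus F m) := fun _ _ h =>
  doubleMat_injective F m (congrArg (fun x => Units.val (Subtype.val x)) h)

/-- `B ↦ 1 ⊕ B`. -/
noncomputable def oddMat (m : ℕ) :
    Matrix.SpecialLinearGroup (Fin m) F →* Matrix (Unit ⊕ (Fin m ⊕ Fin m)) (Unit ⊕ (Fin m ⊕ Fin m)) F where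
  toFun A := fromBlocks 1 0 0 (doubleMat F m A)
  map_one' := by rw [map_one, fromBlocks_one]
  map_mul' A B := by rw [fromBlocks_multiply, map_mul]; simp

/-- `SL_m → O_{2m+1}`. -/
noncomputable def slOdd (m : ℕ) :
    Matrix.SpecialLinearGroup (Fin m) F →* ↥(isometryGroup F (quadFormOdd m F)) :=
  (oddMat F m).toHomUnits.codRestrict _ fun A u _ => by
    show quadFormOdd m F (fromBlocks 1 0 0 (doubleMat F m A) *ᵥ u) = quadFormOdd m F u
    simp only [quadFormOdd, fromBlocks_mulVec, Matrix.zero_mulVec, add_zero, zero_add, Sum.elim_inl,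
      Sum.elim_inr, Matrix.one_mulVec, Function.comp_apply]
    rw [hyperbolic_invariant]
    rfl

theorem slOdd_injective (m : ℕ) : Function.Injective (slOdd F m) := fun _ _ h =>
  doubleMat_injective F m
    (fromBlocks_inj.1 (congrArg (fun x => Units.val (Subtype.val x)) h : oddMat F m _ = oddMat F m _)).2.2.2

/-- `B ↦ B ⊕ 1`. -/
noncomputable def minusMat (m : ℕ) :
    Matrix.SpecialLinearGroup (Fin m) F →* Matrix ((Fin m ⊕ Fin m) ⊕ Fin 2) ((Fin m ⊕ Fin m) ⊕ Fin 2) F where
  toFun A := fromBlocks (doubleMat F m A) 0 0 1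
  map_one' := by rw [map_one, fromBlocks_one]
  map_mul' A B := by rw [fromBlocks_multiply, map_mul]; simp

/-- `SL_m → O⁻_{2m+2}`. -/
noncomputable def slMinus (m : ℕ) (a b : F) :
    Matrix.SpecialLinearGroup (Fin m) F →* ↥(isometryGroup F (quadFormMinus m F a b)) :=
  (minusMat F m).toHomUnits.codRestrict _ fun A u _ => by
    show quadFormMinus m F a b (fromBlocks (doubleMat F m A) 0 0 1 *ᵥ u) = quadFormMinus m F a b u
    simp only [quadFormMinus, fromBlocks_mulVec, Matrix.zero_mulVec, add_zero, zero_add, Sum.elim_inl,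
      Sum.elim_inr, Matrix.one_mulVec, Function.comp_apply]
    rw [hyperbolic_invariant]
    rfl

theorem slMinus_injective (m : ℕ) (a b : F) : Function.Injective (slMinus F m a b) := fun _ _ h =>
  doubleMat_injective F m
    (fromBlocks_inj.1 (congrArg (fun x => Units.val (Subtype.val x)) h : minusMat F m _ = minusMat F m _)).1

end Doubled

section Unitary

variable {F}

/-- `A_n → SU_n`. -/
noncomputable def altSU (n q : ℕ) : alternatingGroup (Fin n) →* ↥(SU n F q) :=
  (altSL F n).codRestrict _ fun σ u v => by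
    show hermForm n F q ((((σ : Equiv.Perm (Fin n))⁻¹).permMatrix F) *ᵥ u)
      ((((σ : Equiv.Perm (Fin n))⁻¹).permMatrix F) *ᵥ v) = hermForm n F q u v
    simp only [Matrix.permMatrix_mulVec, hermForm, Function.comp_apply]
    exact Equiv.sum_comp ((σ : Equiv.Perm (Fin n))⁻¹) (fun i => u i * v i ^ q)

theorem altSU_injective (n q : ℕ) : Function.Injective (altSU (F := F) n q) := fun _ _ h =>
  altSL_injective F n (congrArg Subtype.val h)

/-- The data needed to place `SL₂(q)` inside `SU₂(q)`. -/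
theorem exists_hyperbolic_frame [Fintype F] {q : ℕ} (hq : Fintype.card F = q ^ 2) (σ : F →+* F)
    (hσ : ∀ x, σ x = x ^ q) :
    ∃ (s t γ α : F), 1 + s * σ s = 0 ∧ 1 + t * σ t = 0 ∧ t ≠ s ∧ γ ≠ 0 ∧ α ≠ 0 ∧
      σ γ * (1 + s * σ t) = α ∧ γ * (1 + t * σ s) = -α := by
  classical
  have hq2 : 2 ≤ q := by
    rcases Nat.lt_or_ge q 2 with h | h
    · have := Fintype.one_lt_card (α := F)
      interval_cases q <;> simp_all
    · exact h
  have hσσ : ∀ x, σ (σ x) = x := fun x => by
    rw [hσ, hσ, ← pow_mul, ← sq, ← hq, FiniteField.pow_card]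
  obtain ⟨g, hg⟩ := IsCyclic.exists_generator (α := Fˣ)
  have hord : orderOf g = q ^ 2 - 1 := by
    rw [orderOf_eq_card_of_forall_mem_zpowers hg, Nat.card_units, Nat.card_eq_fintype_card, hq]
  have hfac : q ^ 2 - 1 = (q + 1) * (q - 1) := by
    have := Nat.sq_sub_sq q 1
    simpa using this
  have hneg : ∃ x : Fˣ, x ^ (q + 1) = -1 := by
    obtain ⟨k, hk⟩ := Submonoid.mem_powers_iff _ _ |>.1
      ((mem_powers_iff_mem_zpowers).2 (hg (-1)))
    have h1 : g ^ (2 * k) = 1 := by rw [mul_comm, pow_mul, hk, neg_one_sq]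
    have h2 : (q + 1) * (q - 1) ∣ 2 * k := hfac ▸ hord ▸ orderOf_dvd_of_pow_eq_one h1
    rcases Nat.even_or_odd q with he | ho
    · obtain ⟨j, hj⟩ : (q + 1) ∣ k :=
        (Nat.Coprime.dvd_of_dvd_mul_left (Nat.coprime_two_right.2 (Even.add_one he))
          (dvd_trans (Dvd.intro _ rfl) h2))
      exact ⟨g ^ j, by rw [← pow_mul, mul_comm, ← hj, hk]⟩
    · obtain ⟨r, hr⟩ := ho
      obtain ⟨j, hj⟩ := h2
      refine ⟨g ^ (r * j), ?_⟩
      rw [← pow_mul, ← hk]
      congr 1
      have : q - 1 = 2 * r := by omega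
      rw [this] at hj
      linarith
  obtain ⟨x, hx⟩ := hneg
  let y : Fˣ := g ^ (q - 1)
  have hy : y ^ (q + 1) = 1 := by
    rw [← pow_mul, mul_comm, ← hfac, ← hord, pow_orderOf_eq_one]
  have hy1 : y ≠ 1 := fun h => by
    have h2 : orderOf g ∣ q - 1 := orderOf_dvd_of_pow_eq_one h
    have := Nat.le_of_dvd (by omega) h2
    rw [hord, hfac] at this
    nlinarith [Nat.sub_add_cancel (show 1 ≤ q by omega)]
  have hx' : (x : F) * σ x = -1 := by
    rw [hσ, mul_comm, ← pow_succ]
    have := congrArg Units.val hx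
    simpa using this
  have hxy' : ((x * y : Fˣ) : F) * σ ((x * y : Fˣ) : F) = -1 := by
    rw [hσ, mul_comm, ← pow_succ, ← Units.val_pow_eq_pow_val, mul_pow, hy, mul_one, hx]
    simp
  generalize hs : (x : F) = s at hx'
  generalize ht : ((x * y : Fˣ) : F) = t at hxy'
  have hst : t ≠ s := by
    rw [← ht, ← hs]
    intro h
    exact hy1 (mul_eq_left.1 (Units.ext h))
  have hs1 : 1 + s * σ s = 0 := by rw [hx']; ring
  have ht1 : 1 + t * σ t = 0 := by rw [hxy']; ring
  have hβ : 1 + s * σ t ≠ 0 := fun h => hst (by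
    have h2 : (s - t) * σ t = 0 := by linear_combination h - ht1
    have h3 : σ t ≠ 0 := fun h4 => by simp [h4] at ht1
    exact (sub_eq_zero.1 ((mul_eq_zero.1 h2).resolve_right h3)).symm)
  obtain ⟨α, hα, hσα⟩ : ∃ α : F, α ≠ 0 ∧ σ α = -α := by
    refine ⟨(g : F) - σ g, fun h => ?_, by rw [map_sub, hσσ]; ring⟩
    rw [sub_eq_zero, hσ, ← Units.val_pow_eq_pow_val, Units.val_inj] at h
    have h2 : g ^ (q - 1) = 1 := by
      refine mul_right_cancel (b := g) ?_
      rw [← pow_succ, Nat.sub_add_cancel (by omega), ← h, one_mul]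
    exact hy1 h2
  refine ⟨s, t, σ (α / (1 + s * σ t)), α, hs1, ht1, hst, ?_, hα, ?_, ?_⟩
  · exact (map_ne_zero σ).2 (div_ne_zero hα hβ)
  · rw [hσσ, div_mul_cancel₀ _ hβ]
  · have : 1 + t * σ s = σ (1 + s * σ t) := by rw [map_add, map_mul, hσσ, map_one, mul_comm]
    rw [this, ← map_mul, div_mul_cancel₀ _ hβ, hσα]

/-- A subfield of size at least `q - 1` fixed by `x ↦ x ^ q`, and an embedding of its `SL₂` into `SU_n`. -/
theorem exists_sl2_SU [Fintype F] {q : ℕ} (hq : Fintype.card F = q ^ 2) {n : ℕ} (hn : 2 ≤ n) :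
    ∃ K : Subfield F, q - 1 ≤ Nat.card K ∧
      ∃ ψ : Matrix.SpecialLinearGroup (Fin 2) K →* ↥(SU n F q), Function.Injective ψ := by
  classical
  obtain ⟨p, hchar⟩ := CharP.exists F
  obtain ⟨k, hp, hk⟩ := FiniteField.card F p
  haveI : Fact p.Prime := ⟨hp⟩
  haveI : ExpChar F p := ExpChar.prime hp
  obtain ⟨j, -, hj⟩ := (Nat.dvd_prime_pow hp).1
    (show q ∣ p ^ (k : ℕ) by rw [← hk, hq]; exact dvd_pow_self q two_ne_zero)
  let σ : F →+* F := iterateFrobenius F p j
  have hσ : ∀ x, σ x = x ^ q := fun x => by rw [hj]; exact iterateFrobenius_def p j x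
  let K : Subfield F := RingHom.eqLocusField σ (RingHom.id F)
  have hK : ∀ x, x ∈ K ↔ σ x = x := fun x => Iff.rfl
  refine ⟨K, ?_, ?_⟩
  · let f : Fˣ →* Fˣ := powMonoidHom (q + 1)
    have hq1 : 1 ≤ q := Nat.one_le_iff_ne_zero.2 fun h => by simp [h] at hq
    have h1 : Nat.card f.range ≤ Nat.card K := by
      refine Nat.card_le_card_of_injective (fun y => (⟨((y.1 : Fˣ) : F), ?_⟩ : K)) ?_
      · obtain ⟨_, z, rfl⟩ := y
        rw [hK, hσ]
        simp only [f, powMonoidHom_apply, Units.val_pow_eq_pow_val]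
        rw [← pow_mul, show (q + 1) * q = q ^ 2 + q by ring, pow_add, ← hq, FiniteField.pow_card, ← pow_succ']
      · intro a b hab
        exact Subtype.ext (Units.ext (congrArg Subtype.val hab))
    have h2 : Nat.card f.ker ≤ q + 1 := by
      have h3 : f.ker = rootsOfUnity (q + 1) F := by
        ext y; simp [f, mem_rootsOfUnity]
      rw [h3]
      exact card_rootsOfUnity F (q + 1)
    have h4 := Subgroup.card_eq_card_quotient_mul_card_subgroup f.ker
    rw [Nat.card_congr (QuotientGroup.quotientKerEquivRange f).toEquiv, Nat.card_units,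
      Nat.card_eq_fintype_card, hq] at h4
    have h5 : q ^ 2 - 1 ≤ Nat.card K * (q + 1) := h4 ▸ Nat.mul_le_mul h1 h2
    have h6 : q ^ 2 - 1 = (q + 1) * (q - 1) := by simpa using Nat.sq_sub_sq q 1
    rw [h6, mul_comm (Nat.card K)] at h5
    exact Nat.le_of_mul_le_mul_left h5 (by omega)
  obtain ⟨s, t, γ, α, hs, ht, hst, hγ, hα, h12, h21⟩ := exists_hyperbolic_frame hq σ hσ
  let P : Matrix (Fin 2) (Fin 2) F := !![1, γ; s, γ * t]
  have hPdet : IsUnit P.det := by
    rw [isUnit_iff_ne_zero]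
    simp only [P, Matrix.det_fin_two_of]
    intro h
    exact hst (mul_left_cancel₀ hγ (by linear_combination h))
  have hP1 : P * P⁻¹ = 1 := Matrix.mul_nonsing_inv _ hPdet
  have hP2 : P⁻¹ * P = 1 := Matrix.nonsing_inv_mul _ hPdet
  let h2f : (Fin 2 → F) → (Fin 2 → F) → F := fun u v => u 0 * σ (v 0) + u 1 * σ (v 1)
  have hform : ∀ u v : Fin 2 → F,
      h2f (P *ᵥ u) (P *ᵥ v) = α * (u 0 * σ (v 1) - u 1 * σ (v 0)) := by
    intro u v
    simp [h2f, P, Matrix.mulVec, dotProduct, Fin.sum_univ_two]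
    linear_combination (u 0 * σ (v 0)) * hs + (u 0 * σ (v 1)) * h12 + (u 1 * σ (v 0)) * h21 +
      (γ * σ γ * (u 1 * σ (v 1))) * ht
  let inner : Matrix.SpecialLinearGroup (Fin 2) K →* Matrix (Fin 2) (Fin 2) F :=
    { toFun := fun A => P * (A.1.map K.subtype) * P⁻¹
      map_one' := by simp [hP1]
      map_mul' := fun A B => by
        rw [Matrix.SpecialLinearGroup.coe_mul, Matrix.map_mul]
        calc P * (A.1.map K.subtype * B.1.map K.subtype) * P⁻¹
            = P * A.1.map K.subtype * (P⁻¹ * P) * (B.1.map K.subtype) * P⁻¹ := by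
              rw [hP2]; simp [Matrix.mul_assoc]
          _ = _ := by simp only [Matrix.mul_assoc] }
  have inner_inj : Function.Injective inner := fun A B h => by
    have h' : P * A.1.map K.subtype * P⁻¹ = P * B.1.map K.subtype * P⁻¹ := h
    have := congrArg (fun M => P⁻¹ * M * P) h'
    simp only [Matrix.mul_assoc, hP2, Matrix.mul_one] at this
    simp only [← Matrix.mul_assoc, hP2, Matrix.one_mul] at this
    exact Subtype.ext (Matrix.map_injective (Subfield.coe_subtype K ▸ Subtype.val_injective) this)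
  have inner_det : ∀ A, (inner A).det = 1 := fun A => by
    show (P * A.1.map K.subtype * P⁻¹).det = 1
    have hA : (A.1.map K.subtype).det = K.subtype A.1.det := (RingHom.map_det _ _).symm
    rw [A.2, map_one] at hA
    rw [Matrix.det_mul, Matrix.det_mul, hA, mul_one, ← Matrix.det_mul, hP1, Matrix.det_one]
  have inner_form : ∀ A u v, h2f (inner A *ᵥ u) (inner A *ᵥ v) = h2f u v := by
    intro A u v
    have hu : u = P *ᵥ (P⁻¹ *ᵥ u) := by rw [Matrix.mulVec_mulVec, hP1, Matrix.one_mulVec]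
    have hv : v = P *ᵥ (P⁻¹ *ᵥ v) := by rw [Matrix.mulVec_mulVec, hP1, Matrix.one_mulVec]
    conv_rhs => rw [hu, hv, hform]
    show h2f ((P * A.1.map K.subtype * P⁻¹) *ᵥ u) ((P * A.1.map K.subtype * P⁻¹) *ᵥ v) = _
    rw [← Matrix.mulVec_mulVec, ← Matrix.mulVec_mulVec, ← Matrix.mulVec_mulVec, ← Matrix.mulVec_mulVec, hform]
    congr 1
    have hfix : ∀ i j, σ ((A.1.map K.subtype) i j) = (A.1.map K.subtype) i j := fun i j =>
      (hK _).1 (A.1 i j).2
    have hdet : (A.1.map K.subtype).det = 1 := by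
      have := congrArg K.subtype A.2
      rw [RingHom.map_det, map_one] at this
      exact this
    rw [Matrix.det_fin_two] at hdet
    generalize P⁻¹ *ᵥ u = x
    generalize P⁻¹ *ᵥ v = y
    simp only [Matrix.mulVec, dotProduct, Fin.sum_univ_two, map_add, map_mul, hfix]
    linear_combination (x 0 * σ (y 1) - x 1 * σ (y 0)) * hdet
  let big : Matrix.SpecialLinearGroup (Fin 2) K →* Matrix.SpecialLinearGroup (Fin n) F :=
    { toFun := fun A => padSL F hn ⟨inner A, inner_det A⟩
      map_one' := by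
        rw [← map_one (padSL F hn)]; congr 1; exact Subtype.ext (map_one inner)
      map_mul' := fun A B => by
        refine Subtype.ext ?_
        show padMat F hn (inner (A * B)) = padMat F hn (inner A) * padMat F hn (inner B)
        rw [map_mul, map_mul] }
  refine ⟨big.codRestrict _ fun A u v => ?_, fun A B h => ?_⟩
  · show hermForm n F q (padMat F hn (inner A) *ᵥ u) (padMat F hn (inner A) *ᵥ v) = hermForm n F q u v
    show hermForm n F q ((Matrix.reindexAlgEquiv F F (padEquiv hn) (fromBlocks (inner A) 0 0 1)) *ᵥ u)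
      ((Matrix.reindexAlgEquiv F F (padEquiv hn) (fromBlocks (inner A) 0 0 1)) *ᵥ v) = hermForm n F q u v
    simp only [hermForm]
    rw [← (padEquiv hn).sum_comp, ← (padEquiv hn).sum_comp, Fintype.sum_sum_type, Fintype.sum_sum_type]
    simp only [Matrix.reindexAlgEquiv_apply, Matrix.reindex_apply, Matrix.submatrix_mulVec_equiv,
      Equiv.symm_symm, Function.comp_apply, Equiv.symm_apply_apply, fromBlocks_mulVec,
      Matrix.zero_mulVec, add_zero, zero_add, Sum.elim_inl, Sum.elim_inr, Matrix.one_mulVec]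
    congr 1
    have h7 := inner_form A ((u ∘ padEquiv hn) ∘ Sum.inl) ((v ∘ padEquiv hn) ∘ Sum.inl)
    simp only [h2f, hσ, Function.comp_apply] at h7
    simpa only [Fin.sum_univ_two, Function.comp_apply] using h7
  · have h1 : padSL F hn ⟨inner A, inner_det A⟩ = padSL F hn ⟨inner B, inner_det B⟩ :=
      congrArg Subtype.val h
    exact inner_inj (congrArg Subtype.val (padSL_injective F hn h1))

end Unitary

section Card

/-- A group injecting into `ι × ι` matrices has at most `|F| ^ (|ι| ^ 2)` elements. -/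
theorem card_le_matrix [Fintype F] {ι : Type*} [Fintype ι] {X : Type*} (f : X → Matrix ι ι F)
    (hf : Function.Injective f) : Nat.card X ≤ Fintype.card F ^ (Fintype.card ι ^ 2) := by
  classical
  refine (Nat.card_le_card_of_injective f hf).trans (le_of_eq ?_)
  simp [Matrix, Nat.card_eq_fintype_card, Fintype.card_fun, ← pow_mul, sq]

end Card

end Cfsg.Agent.Lib.ClassicalEmb
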