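import Mathlib

/-!
Leading-term ("ping-pong") argument over a polynomial ring: if a group of matrices contains
`g(k) = s • diag(k ^ a i)` with a strictly extreme top and bottom exponent, and an element `c` such that
the four corner entries of `c` and of `c⁻¹` are non-zero, then a given non-trivial word fails to be a law
as soon as the field is large compared with the largest exponent and the word.
-/

set_option autoImplicit false

namespace Cfsg.Agent.Lib.Laws

open Polynomial Matrix

variable {ι : Type*} [Fintype ι] [DecidableEq ι] {F : Type*} [Field F]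

/-- Exponent data: the top index with exponent `A`, bottom index with exponent `0`, everything else strictly between. -/
structure TorusData (ι : Type*) where
  a : ι → ℕ
  A : ℕ
  top : ι
  bot : ι
  a_top : a top = A
  a_bot : a bot = 0
  lt_top : ∀ i, i ≠ top → a i < A
  pos : ∀ i, i ≠ bot → 0 < a i

variable (T : TorusData ι)

def TorusData.pole (b : Bool) : ι := cond b T.top T.bot
def TorusData.ex (b : Bool) (i : ι) : ℕ := cond b (T.a i) (T.A - T.a i)

omit [Fintype ι] [DecidableEq ι] in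
theorem TorusData.a_le (i : ι) : T.a i ≤ T.A := by
  by_cases h : i = T.top
  · rw [h, T.a_top]
  · exact (T.lt_top i h).le

omit [Fintype ι] [DecidableEq ι] in
theorem TorusData.ex_pole (b : Bool) : T.ex b (T.pole b) = T.A := by
  cases b <;> simp [TorusData.ex, TorusData.pole, T.a_top, T.a_bot]

omit [Fintype ι] [DecidableEq ι] in
theorem TorusData.ex_lt (b : Bool) (i : ι) (h : i ≠ T.pole b) : T.ex b i < T.A := by
  have h1 := T.a_le i
  cases b
  · have := T.pos i h; simp only [TorusData.ex, cond_false]; omega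
  · exact T.lt_top i h

/-- All degrees at most `D`, and coordinate `j` attains `D`. -/
def Reaches (u : ι → F[X]) (D : ℕ) (j : ι) : Prop :=
  (∀ i, (u i).natDegree ≤ D) ∧ (u j).coeff D ≠ 0

/-- `Reaches`, and `j` is the only coordinate attaining `D`. -/
def Single (u : ι → F[X]) (D : ℕ) (j : ι) : Prop :=
  Reaches u D j ∧ ∀ i, i ≠ j → (u i).coeff D = 0

/-- Multiplication by `diag (X ^ (n * ex b i))`. -/
noncomputable def dmul (b : Bool) (n : ℕ) (u : ι → F[X]) : ι → F[X] :=
  fun i => X ^ (n * T.ex b i) * u i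

omit [Fintype ι] [DecidableEq ι] in
theorem dmul_single {b : Bool} {n : ℕ} (hn : 1 ≤ n) {u : ι → F[X]} {D : ℕ}
    (h : Reaches u D (T.pole b)) : Single (dmul T b n u) (D + n * T.A) (T.pole b) := by
  have hdeg : ∀ i, (dmul T b n u i).natDegree ≤ D + n * T.ex b i := fun i => by
    refine natDegree_mul_le.trans ?_
    rw [natDegree_X_pow]
    have := h.1 i; omega
  refine ⟨⟨fun i => (hdeg i).trans ?_, ?_⟩, fun i hi => ?_⟩
  · by_cases hi : i = T.pole b
    · rw [hi, T.ex_pole]
    · have := Nat.mul_le_mul_left n (T.ex_lt b i hi).le; omega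
  · rw [dmul, T.ex_pole, coeff_X_pow_mul]
    exact h.2
  · refine coeff_eq_zero_of_natDegree_lt ((hdeg i).trans_lt ?_)
    have := Nat.mul_lt_mul_of_pos_left (T.ex_lt b i hi) (show 0 < n by omega)
    omega

/-- Multiplication by a constant matrix. -/
noncomputable def cmul (M : Matrix ι ι F) (u : ι → F[X]) : ι → F[X] := (M.map C) *ᵥ u

omit [DecidableEq ι] in
theorem cmul_apply (M : Matrix ι ι F) (u : ι → F[X]) (i : ι) :
    cmul M u i = ∑ j, C (M i j) * u j := rfl

omit [DecidableEq ι] in
theorem cmul_reaches {M : Matrix ι ι F} {u : ι → F[X]} {D : ℕ} {j i : ι}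
    (h : Single u D j) (hM : M i j ≠ 0) : Reaches (cmul M u) D i := by
  refine ⟨fun l => ?_, ?_⟩
  · rw [cmul_apply]
    exact natDegree_sum_le_of_forall_le _ _ fun x _ => (natDegree_C_mul_le _ _).trans (h.1.1 x)
  · rw [cmul_apply, finsetSum_coeff, Finset.sum_eq_single j]
    · rw [coeff_C_mul]; exact mul_ne_zero hM h.1.2
    · intro x _ hx; rw [coeff_C_mul, h.2 x hx, mul_zero]
    · intro hx; exact absurd (Finset.mem_univ j) hx

/-- Corner entries of `M` are non-zero. -/
def Corners (M : Matrix ι ι F) : Prop := ∀ b b', M (T.pole b) (T.pole b') ≠ 0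

/-- Evaluation of a polynomial vector. -/
noncomputable def evalV (k : F) (u : ι → F[X]) : ι → F := fun i => (u i).eval k

omit [DecidableEq ι] in
theorem evalV_cmul (k : F) (M : Matrix ι ι F) (u : ι → F[X]) :
    evalV k (cmul M u) = M *ᵥ evalV k u := by
  funext i; simp [evalV, cmul_apply, eval_finsetSum, Matrix.mulVec, dotProduct]

omit [Fintype ι] [DecidableEq ι] in
theorem evalV_dmul (k : F) (b : Bool) (n : ℕ) (u : ι → F[X]) :
    evalV k (dmul T b n u) = fun i => k ^ (n * T.ex b i) * evalV k u i := by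
  funext i; simp [evalV, dmul]

/-- What is assumed of `g` at the parameter `k`. -/
def IsTorus (k : F) (g : GL ι F) : Prop :=
  ∃ s : F, s ≠ 0 ∧ (g : Matrix ι ι F) = s • Matrix.diagonal (fun i => k ^ T.a i)

/-- `x` and `y` are proportional, with non-zero factor. -/
def Prop' (x y : ι → F) : Prop := ∃ S : F, S ≠ 0 ∧ x = S • y

omit [Fintype ι] [DecidableEq ι] in
theorem Prop'.trans {x y z : ι → F} (h : Prop' x y) (h' : Prop' y z) : Prop' x z := by
  obtain ⟨S, hS, rfl⟩ := h
  obtain ⟨S', hS', rfl⟩ := h'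
  exact ⟨S * S', mul_ne_zero hS hS', smul_smul S S' z⟩

omit [DecidableEq ι] in
theorem Prop'.mulVec (M : Matrix ι ι F) {x y : ι → F} (h : Prop' x y) :
    Prop' (M *ᵥ x) (M *ᵥ y) := by
  obtain ⟨S, hS, rfl⟩ := h
  exact ⟨S, hS, Matrix.mulVec_smul M S y⟩

omit [Fintype ι] [DecidableEq ι] in
theorem Prop'.rfl' (x : ι → F) : Prop' x x := ⟨1, one_ne_zero, (one_smul F x).symm⟩

theorem torus_pow {k : F} {g : GL ι F} (hk : k ≠ 0) (hg : IsTorus T k g) (b : Bool) (n : ℕ)
    (u : ι → F[X]) :
    Prop' (((cond b g g⁻¹ ^ n : GL ι F) : Matrix ι ι F) *ᵥ evalV k u) (evalV k (dmul T b n u)) := by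
  obtain ⟨s, hs, hg⟩ := hg
  have hb : ∃ s' : F, s' ≠ 0 ∧ ∀ x : ι → F,
      ((cond b g g⁻¹ : GL ι F) : Matrix ι ι F) *ᵥ x = s' • (fun i => k ^ T.ex b i * x i) := by
    cases b
    · refine ⟨(s * k ^ T.A)⁻¹, inv_ne_zero (mul_ne_zero hs (pow_ne_zero _ hk)), fun x => ?_⟩
      have key : x = (g : Matrix ι ι F) *ᵥ ((s * k ^ T.A)⁻¹ • fun i => k ^ T.ex false i * x i) := by
        funext i
        simp only [hg, Matrix.smul_mulVec, Matrix.mulVec_diagonal, Pi.smul_apply, smul_eq_mul,
          TorusData.ex, cond_false]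
        rw [show k ^ T.A = k ^ T.a i * k ^ (T.A - T.a i) by
          rw [← pow_add, Nat.add_sub_cancel' (T.a_le i)]]
        field_simp
      conv_lhs => rw [key]
      rw [Matrix.mulVec_mulVec, cond_false, ← Units.val_mul, inv_mul_cancel, Units.val_one,
        Matrix.one_mulVec]
    · refine ⟨s, hs, fun x => ?_⟩
      rw [cond_true, hg, Matrix.smul_mulVec]
      funext i
      simp [Matrix.mulVec_diagonal, TorusData.ex]
  obtain ⟨s', hs', hb⟩ := hb
  induction n with
  | zero =>
    have : evalV k (dmul T b 0 u) = evalV k u := by funext i; simp [evalV, dmul]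
    rw [this, pow_zero, Units.val_one, Matrix.one_mulVec]
    exact Prop'.rfl' _
  | succ n ih =>
    rw [pow_succ', Units.val_mul, ← Matrix.mulVec_mulVec]
    refine (ih.mulVec _).trans ⟨s', hs', ?_⟩
    rw [hb]
    funext i
    simp only [Pi.smul_apply, evalV_dmul, smul_eq_mul]
    rw [Nat.add_mul, pow_add, one_mul]
    ring

/-- The substitution `x_i ↦ (c g c⁻¹)^(i+1) g (c g c⁻¹)^(-(i+1))`. -/
def sub (c g : GL ι F) (i : ℕ) : GL ι F :=
  c * g ^ (i + 1) * c⁻¹ * g * (c * g ^ (i + 1) * c⁻¹)⁻¹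

theorem sub_signed (c g : GL ι F) (i : ℕ) (b : Bool) :
    cond b (sub c g i) (sub c g i)⁻¹ =
      c * g ^ (i + 1) * c⁻¹ * cond b g g⁻¹ * c * (g⁻¹) ^ (i + 1) * c⁻¹ := by
  cases b <;> simp only [sub, cond_true, cond_false, _root_.mul_inv_rev, inv_inv, inv_pow, mul_assoc]

/-- Product of a list of letters. -/
def evalWord (c g : GL ι F) (L : List (ℕ × Bool)) : GL ι F :=
  (L.map fun x => cond x.2 (sub c g x.1) (sub c g x.1)⁻¹).prod

/-- The weight of a word. -/
def weight (L : List (ℕ × Bool)) : ℕ := (L.map fun x => 2 * (x.1 + 1)).sum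

theorem weight_cons (x : ℕ × Bool) (L : List (ℕ × Bool)) :
    weight (x :: L) = 2 * (x.1 + 1) + weight L := by simp [weight]

theorem word_vector (c : GL ι F) (hc : Corners T (c : Matrix ι ι F))
    (hc' : Corners T ((c⁻¹ : GL ι F) : Matrix ι ι F)) :
    ∀ (L : List (ℕ × Bool)) (x : ℕ × Bool),
      FreeGroup.IsReduced (x :: L) →
      ∃ (u : ι → F[X]) (D : ℕ), D ≤ T.A * (weight L + (x.1 + 2)) ∧ Single u D (T.pole x.2) ∧
        ∀ (k : F) (g : GL ι F), k ≠ 0 → IsTorus T k g →
          Prop' ((evalWord c g (x :: L) : Matrix ι ι F) *ᵥ ((c : Matrix ι ι F) *ᵥ Pi.single T.bot 1))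
            (((c * g ^ (x.1 + 1) * c⁻¹ : GL ι F) : Matrix ι ι F) *ᵥ evalV k u)
  | [], (i, b), _ => by
    classical
    let e0 : ι → F[X] := Pi.single T.bot 1
    have he0 : Reaches e0 0 (T.pole false) := by
      refine ⟨fun j => ?_, ?_⟩
      · by_cases hj : j = T.bot
        · subst hj; simp [e0]
        · simp [e0, Pi.single_eq_of_ne hj]
      · simp [e0, TorusData.pole]
    let v1 := dmul T false (i + 1) e0
    have h1 : Single v1 ((i + 1) * T.A) (T.pole false) := by
      simpa [v1] using dmul_single T (Nat.succ_pos i) he0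
    let v2 := cmul (c : Matrix ι ι F) v1
    have h2 : Reaches v2 ((i + 1) * T.A) (T.pole b) := cmul_reaches h1 (hc b false)
    refine ⟨dmul T b 1 v2, (i + 1) * T.A + 1 * T.A, ?_, dmul_single T le_rfl h2, fun k g hk hg => ?_⟩
    · simp [weight]; nlinarith
    · have hev : evalV k e0 = Pi.single T.bot 1 := by
        funext j
        by_cases hj : j = T.bot
        · subst hj; simp [e0, evalV]
        · simp [e0, evalV, Pi.single_eq_of_ne hj]
      have e1 : evalWord c g [(i, b)] * c =
          c * g ^ (i + 1) * c⁻¹ * (cond b g g⁻¹ ^ 1 * (c * (g⁻¹) ^ (i + 1))) := by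
        simp [evalWord, sub_signed, mul_assoc]
      rw [Matrix.mulVec_mulVec, ← Units.val_mul, e1, Units.val_mul, ← Matrix.mulVec_mulVec]
      refine Prop'.mulVec _ ?_
      rw [Units.val_mul, Units.val_mul, ← Matrix.mulVec_mulVec, ← Matrix.mulVec_mulVec, ← hev]
      refine Prop'.trans ((Prop'.mulVec _ ((torus_pow T hk hg false (i + 1) e0).mulVec _))) ?_
      rw [← evalV_cmul]
      exact torus_pow T hk hg b 1 v2
  | (i, b) :: L, (j, b'), hred => by
    have hred' : FreeGroup.IsReduced ((i, b) :: L) := List.IsChain.tail hred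
    obtain ⟨u, D, hD, hu, hev⟩ := word_vector c hc hc' L (i, b) hred'
    have hjb : j = i → b' = b := by
      have := hred
      simp only [FreeGroup.IsReduced, List.isChain_cons_cons] at this
      exact this.1
    simp only [weight_cons] at hD ⊢
    have key : ∀ g : GL ι F, evalWord c g ((j, b') :: (i, b) :: L) =
        c * g ^ (j + 1) * c⁻¹ * cond b' g g⁻¹ * c * (g⁻¹) ^ (j + 1) * c⁻¹ * evalWord c g ((i, b) :: L) := by
      intro g; simp [evalWord, sub_signed]
    by_cases hji : j = i
    · obtain rfl := hjb hji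
      subst hji
      refine ⟨dmul T b' 1 u, D + 1 * T.A, ?_, dmul_single T le_rfl hu.1, fun k g hk hg => ?_⟩
      · nlinarith
      · rw [key, Units.val_mul, ← Matrix.mulVec_mulVec]
        refine ((hev k g hk hg).mulVec _).trans ?_
        rw [Matrix.mulVec_mulVec, ← Units.val_mul,
          show c * g ^ (j + 1) * c⁻¹ * cond b' g g⁻¹ * c * (g⁻¹) ^ (j + 1) * c⁻¹ *
              (c * g ^ (j + 1) * c⁻¹) = c * g ^ (j + 1) * c⁻¹ * cond b' g g⁻¹ ^ 1 by
            simp [mul_assoc, inv_pow],
          Units.val_mul, ← Matrix.mulVec_mulVec]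
        exact (torus_pow T hk hg b' 1 u).mulVec _
    · let d : Bool := decide (j < i)
      let n : ℕ := (i - j) + (j - i)
      have hn : 1 ≤ n := by omega
      have hgd : ∀ g : GL ι F, (g⁻¹) ^ (j + 1) * g ^ (i + 1) = cond d g g⁻¹ ^ n := by
        intro g
        rcases Nat.lt_or_gt_of_ne hji with h | h
        · have hd : d = true := by simp [d, h]
          rw [hd, cond_true, show i + 1 = (j + 1) + n by omega, pow_add g (j + 1) n, ← mul_assoc, inv_pow,
            inv_mul_cancel, one_mul]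
        · have hd : d = false := by simp [d]; omega
          rw [hd, cond_false, show j + 1 = n + (i + 1) by omega, pow_add g⁻¹ n (i + 1), mul_assoc, inv_pow g (i + 1),
            inv_mul_cancel, mul_one]
      let v1 := dmul T d n (cmul ((c⁻¹ : GL ι F) : Matrix ι ι F) u)
      have h1 : Single v1 (D + n * T.A) (T.pole d) :=
        dmul_single T hn (cmul_reaches hu (hc' d b))
      let v2 := cmul (c : Matrix ι ι F) v1
      have h2 : Reaches v2 (D + n * T.A) (T.pole b') := cmul_reaches h1 (hc b' d)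
      refine ⟨dmul T b' 1 v2, D + n * T.A + 1 * T.A, ?_, dmul_single T le_rfl h2, fun k g hk hg => ?_⟩
      · have hn' : n ≤ i + j := by omega
        nlinarith [Nat.mul_le_mul_left T.A hn']
      · rw [key, Units.val_mul, ← Matrix.mulVec_mulVec]
        refine ((hev k g hk hg).mulVec _).trans ?_
        rw [Matrix.mulVec_mulVec, ← Units.val_mul,
          show c * g ^ (j + 1) * c⁻¹ * cond b' g g⁻¹ * c * (g⁻¹) ^ (j + 1) * c⁻¹ *
              (c * g ^ (i + 1) * c⁻¹) =
              c * g ^ (j + 1) * c⁻¹ * (cond b' g g⁻¹ ^ 1 * (c * (cond d g g⁻¹ ^ n * c⁻¹))) by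
            rw [← hgd]; simp [mul_assoc],
          Units.val_mul, ← Matrix.mulVec_mulVec]
        refine Prop'.mulVec _ ?_
        rw [Units.val_mul, Units.val_mul, Units.val_mul, ← Matrix.mulVec_mulVec, ← Matrix.mulVec_mulVec,
          ← Matrix.mulVec_mulVec, ← evalV_cmul]
        refine Prop'.trans ((Prop'.mulVec _ ((torus_pow T hk hg d n _).mulVec _))) ?_
        rw [← evalV_cmul]
        exact torus_pow T hk hg b' 1 v2

/-- Degree bound attached to a word. -/
def wordBound (w : FreeGroup ℕ) : ℕ := weight w.toWord + 1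

theorem word_poly (c : GL ι F) (hc : Corners T (c : Matrix ι ι F))
    (hc' : Corners T ((c⁻¹ : GL ι F) : Matrix ι ι F)) (hne : T.top ≠ T.bot)
    (w : FreeGroup ℕ) (hw : w ≠ 1) :
    ∃ P : F[X], P ≠ 0 ∧ P.natDegree ≤ T.A * wordBound w ∧ ∀ (k : F) (g : GL ι F), k ≠ 0 →
      IsTorus T k g → FreeGroup.lift (sub c g) w = 1 → P.eval k = 0 := by
  rcases hL : w.toWord with _ | ⟨⟨i, b⟩, L⟩
  · exact absurd (FreeGroup.toWord_eq_nil_iff.mp hL) hw
  have hred : FreeGroup.IsReduced ((i, b) :: L) := hL ▸ FreeGroup.isReduced_toWord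
  obtain ⟨u, D, hD, hu, hev⟩ := word_vector T c hc hc' L (i, b) hred
  let v := dmul T true (i + 1) (cmul ((c⁻¹ : GL ι F) : Matrix ι ι F) u)
  have hv : Single v (D + (i + 1) * T.A) (T.pole true) :=
    dmul_single T (Nat.succ_pos i) (cmul_reaches hu (hc' true b))
  refine ⟨v T.top, fun h => hv.1.2 ?_, (hv.1.1 _).trans ?_, fun k g hk hg hlift => ?_⟩
  · show (v T.top).coeff _ = 0
    rw [h, coeff_zero]
  · have : wordBound w = 2 * (i + 1) + weight L + 1 := by rw [wordBound, hL, weight_cons]
    rw [this]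
    simp only at hD
    nlinarith
  · have h1 : evalWord c g ((i, b) :: L) = 1 := by
      rw [← hlift, ← FreeGroup.mk_toWord (x := w), hL]
      rfl
    have h2 := hev k g hk hg
    rw [h1, Units.val_one, Matrix.one_mulVec, Units.val_mul, Units.val_mul, ← Matrix.mulVec_mulVec,
      ← Matrix.mulVec_mulVec, ← evalV_cmul] at h2
    have h3 := h2.trans ((torus_pow T hk hg true (i + 1) _).mulVec _)
    have h4 := h3.mulVec ((c⁻¹ : GL ι F) : Matrix ι ι F)
    simp only [Matrix.mulVec_mulVec, ← Units.val_mul, inv_mul_cancel, Units.val_one,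
      Matrix.one_mulVec] at h4
    obtain ⟨S, hS, h5⟩ := h4
    have h6 := congrFun h5 T.top
    rw [Pi.single_eq_of_ne hne, Pi.smul_apply, smul_eq_mul] at h6
    exact (mul_eq_zero.mp h6.symm).resolve_left hS

/-- The main criterion, recording that every substituted element is a conjugate of one `g k`. -/
theorem exists_not_law_conj [Fintype F] {H : Type*} [Group H] (φ : H →* GL ι F) (c : H)
    (hc : Corners T (φ c : Matrix ι ι F)) (hc' : Corners T ((φ c)⁻¹ : GL ι F).val)
    (hne : T.top ≠ T.bot) (g : Fˣ → H) (hg : ∀ k : Fˣ, IsTorus T (k : F) (φ (g k)))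
    (w : FreeGroup ℕ) (hw : w ≠ 1) (hcard : T.A * wordBound w + 1 < Fintype.card F) :
    ∃ f : ℕ → H, (∀ i, ∃ k, IsConj (g k) (f i)) ∧ FreeGroup.lift f w ≠ 1 := by
  classical
  obtain ⟨P, hP0, hPdeg, hP⟩ := word_poly T (φ c) hc hc' hne w hw
  have : ∃ k : F, k ∉ insert (0 : F) P.roots.toFinset := by
    by_contra hcon
    push Not at hcon
    have h1 : Fintype.card F ≤ (insert (0 : F) P.roots.toFinset).card :=
      Finset.card_le_card fun x _ => hcon x
    have h2 := Finset.card_insert_le (0 : F) P.roots.toFinset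
    have h3 := (Multiset.toFinset_card_le P.roots).trans (P.card_roots')
    omega
  obtain ⟨k, hk⟩ := this
  rw [Finset.mem_insert, Multiset.mem_toFinset, Polynomial.mem_roots hP0, not_or] at hk
  let gk := g (Units.mk0 k hk.1)
  refine ⟨fun i => c * gk ^ (i + 1) * c⁻¹ * gk * (c * gk ^ (i + 1) * c⁻¹)⁻¹,
    fun i => ⟨Units.mk0 k hk.1, isConj_iff.2 ⟨_, rfl⟩⟩, fun h => hk.2 ?_⟩
  refine hP k (φ gk) hk.1 (hg _) ?_
  have h2 : φ.comp (FreeGroup.lift fun i => c * gk ^ (i + 1) * c⁻¹ * gk * (c * gk ^ (i + 1) * c⁻¹)⁻¹)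
      = FreeGroup.lift (sub (φ c) (φ gk)) := by
    refine FreeGroup.ext_hom _ _ fun i => ?_
    simp [sub]
  rw [← h2, MonoidHom.comp_apply, h, map_one]


/-- **Main criterion.** A group with a representation containing a split torus of the given shape and an element
in general position satisfies no given law, once the field is large. -/
theorem exists_not_law [Fintype F] {H : Type*} [Group H] (φ : H →* GL ι F) (c : H)
    (hc : Corners T (φ c : Matrix ι ι F)) (hc' : Corners T ((φ c)⁻¹ : GL ι F).val)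
    (hne : T.top ≠ T.bot) (g : Fˣ → H) (hg : ∀ k : Fˣ, IsTorus T (k : F) (φ (g k)))
    (w : FreeGroup ℕ) (hw : w ≠ 1) (hcard : T.A * wordBound w + 1 < Fintype.card F) :
    ∃ f : ℕ → H, FreeGroup.lift f w ≠ 1 := by
  obtain ⟨f, -, hf⟩ := exists_not_law_conj T φ c hc hc' hne g hg w hw hcard
  exact ⟨f, hf⟩

end Cfsg.Agent.Lib.Laws
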