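import Mathlib
import Cfsg.Agent.Lib.Laws.PingPong

/-!
Laws and `SL₂`: a non-trivial word fails in every group whose central quotient is formed from a group containing
`SL₂` over a large field, and in large alternating groups.
-/

set_option autoImplicit false

namespace Cfsg.Agent.Lib.Laws

open Matrix

local notation "SL2 " F:max => Matrix.SpecialLinearGroup (Fin 2) F

theorem not_commute_of (w : FreeGroup ℕ) (hw : w ≠ 1) (N : ℕ) (hN : ∀ x ∈ w.toWord, x.1 < N) :
    w * FreeGroup.of N ≠ FreeGroup.of N * w := by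
  intro h
  rcases hL : w.toWord with _ | ⟨x, L⟩
  · exact hw (FreeGroup.toWord_eq_nil_iff.mp hL)
  have hne : ∀ y ∈ x :: L, y.1 ≠ N := fun y hy => (hN y (hL ▸ hy)).ne
  have hred : FreeGroup.IsReduced (x :: L) := hL ▸ FreeGroup.isReduced_toWord
  have h1 : FreeGroup.IsReduced ((N, true) :: x :: L) :=
    List.IsChain.cons_cons (fun e => absurd e.symm (hne x List.mem_cons_self)) hred
  have h2 : FreeGroup.IsReduced ((x :: L) ++ [(N, true)]) := by
    refine List.IsChain.append hred (List.isChain_singleton _) fun y hy z hz e => ?_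
    have hy' : y ∈ x :: L := List.mem_of_getLast? hy
    simp at hz
    subst hz
    exact absurd e (hne y hy')
  have e1 : FreeGroup.of N * w = FreeGroup.mk ((N, true) :: x :: L) := by
    rw [← FreeGroup.mk_toWord (x := w), hL]; rfl
  have e2 : w * FreeGroup.of N = FreeGroup.mk ((x :: L) ++ [(N, true)]) := by
    rw [← FreeGroup.mk_toWord (x := w), hL]; rfl
  rw [e1, e2] at h
  have h3 := congrArg FreeGroup.toWord h
  rw [FreeGroup.toWord_mk, FreeGroup.toWord_mk, h1.reduce_eq, h2.reduce_eq] at h3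
  simp only [List.cons_append, List.cons.injEq] at h3
  exact hne x List.mem_cons_self (by rw [h3.1])

/-- A variable not occurring in `w`. -/
def fresh (w : FreeGroup ℕ) : ℕ := (w.toWord.map Prod.fst).sum + 1

theorem lt_fresh (w : FreeGroup ℕ) : ∀ x ∈ w.toWord, x.1 < fresh w := fun x hx =>
  Nat.lt_succ_of_le (List.le_sum_of_mem (List.mem_map_of_mem hx))

/-- The commutator of `w` with a fresh variable. -/
def commWord' (w : FreeGroup ℕ) : FreeGroup ℕ :=
  w * FreeGroup.of (fresh w) * w⁻¹ * (FreeGroup.of (fresh w))⁻¹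

theorem commWord'_ne_one (w : FreeGroup ℕ) (hw : w ≠ 1) : commWord' w ≠ 1 := by
  intro h
  refine not_commute_of w hw (fresh w) (lt_fresh w) ?_
  rw [commWord', mul_inv_eq_one, mul_inv_eq_iff_eq_mul] at h
  exact h

/-- The field size beyond which `w` fails in central quotients of groups containing `SL₂`. -/
def sl2Bound (w : FreeGroup ℕ) : ℕ := 4 * wordBound (commWord' w) + 4

section
variable {F : Type*} [Field F]

def sl2Diag (k : Fˣ) : SL2 F := ⟨!![(k : F), 0; 0, ((k⁻¹ : Fˣ) : F)], by simp [Matrix.det_fin_two]⟩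
def sl2Weyl : SL2 F := ⟨!![0, 1; -1, 0], by simp [Matrix.det_fin_two]⟩

theorem sl2_comm (k : Fˣ) :
    ((sl2Diag k * sl2Weyl * (sl2Diag k)⁻¹ * sl2Weyl⁻¹ : SL2 F) : Matrix (Fin 2) (Fin 2) F) =
      ((k : F) ^ 2)⁻¹ • Matrix.diagonal (fun i => (k : F) ^ (![4, 0] : Fin 2 → ℕ) i) := by
  have hk : (k : F) ≠ 0 := k.ne_zero
  rw [Matrix.SpecialLinearGroup.coe_mul, Matrix.SpecialLinearGroup.coe_mul,
    Matrix.SpecialLinearGroup.coe_mul, Matrix.SpecialLinearGroup.coe_inv, Matrix.SpecialLinearGroup.coe_inv]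
  simp only [sl2Diag, sl2Weyl]
  ext i j
  fin_cases i <;> fin_cases j <;>
    simp [Matrix.adjugate_fin_two, Matrix.mul_apply, Fin.sum_univ_two] <;>
    field_simp

theorem exists_noncommuting [Fintype F] (w : FreeGroup ℕ) (hw : w ≠ 1)
    (hF : sl2Bound w < Fintype.card F) :
    ∃ f : ℕ → SL2 F, (∀ i, f i ∈ commutator (SL2 F)) ∧
      ¬ Commute (FreeGroup.lift f w) (f (fresh w)) := by
  classical
  have hs : ∃ s : F, s ≠ 0 ∧ 1 + s * s ≠ 0 := by
    let P : Polynomial F := Polynomial.X * (Polynomial.X ^ 2 + 1)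
    have hP : P.natDegree ≤ 3 := by unfold P; compute_degree
    have hP0 : P ≠ 0 := by
      intro h
      have : P.coeff 3 = 0 := by rw [h, Polynomial.coeff_zero]
      simp [P, Polynomial.coeff_one, Polynomial.coeff_X_pow] at this
    obtain ⟨s, hs⟩ := Polynomial.exists_eval_ne_zero_of_natDegree_lt_card P hP0
      (by rw [Cardinal.mk_fintype]; exact_mod_cast (lt_of_le_of_lt hP (by unfold sl2Bound at hF; omega)))
    simp [P] at hs
    refine ⟨s, hs.1, fun h => hs.2 ?_⟩
    rw [← h]; ring
  obtain ⟨s, hs0, hs1⟩ := hs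
  let c : SL2 F := ⟨!![1, s; s, 1 + s * s], by simp [Matrix.det_fin_two]⟩
  let T : TorusData (Fin 2) :=
    { a := ![4, 0], A := 4, top := 0, bot := 1, a_top := rfl, a_bot := rfl
      lt_top := fun i hi => by fin_cases i <;> simp at hi ⊢
      pos := fun i hi => by fin_cases i <;> simp at hi ⊢ }
  obtain ⟨f, hf, hne⟩ := exists_not_law_conj T Matrix.SpecialLinearGroup.toGL c
    (by intro b b'; cases b <;> cases b' <;> simp [T, TorusData.pole, c, hs0, hs1, Matrix.SpecialLinearGroup.toGL])
    (by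
      intro b b'
      rw [← map_inv]
      show ((c⁻¹ : SL2 F) : Matrix (Fin 2) (Fin 2) F) _ _ ≠ 0
      rw [Matrix.SpecialLinearGroup.coe_inv]
      cases b <;> cases b' <;> simp [T, TorusData.pole, c, hs0, hs1, Matrix.adjugate_fin_two])
    (by simp [T])
    (fun k => sl2Diag k * sl2Weyl * (sl2Diag k)⁻¹ * sl2Weyl⁻¹)
    (fun k => ⟨((k : F) ^ 2)⁻¹, inv_ne_zero (pow_ne_zero _ k.ne_zero), by rw [Matrix.SpecialLinearGroup.toGL]; exact sl2_comm k⟩)
    (commWord' w) (commWord'_ne_one w hw) (by simp [T]; unfold sl2Bound at hF; omega)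
  refine ⟨f, fun i => ?_, fun hc => hne ?_⟩
  · obtain ⟨k, hk⟩ := hf i
    obtain ⟨y, hy⟩ := isConj_iff.1 hk
    rw [← hy]
    refine (Subgroup.Normal.conj_mem inferInstance _ ?_ y)
    rw [← commutatorElement_def]
    exact Subgroup.commutator_mem_commutator (Subgroup.mem_top _) (Subgroup.mem_top _)
  · simp only [commWord', map_mul, map_inv, FreeGroup.lift_apply_of]
    rw [hc.eq]; group

/-- `w` fails in `X / Z(X)` when `X` contains `SL₂` over a large field. -/
theorem not_law_quot [Fintype F] (w : FreeGroup ℕ) (hw : w ≠ 1) (hF : sl2Bound w < Fintype.card F)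
    {X : Type*} [Group X] (ψ : SL2 F →* X) (hψ : Function.Injective ψ) :
    ∃ f : ℕ → X ⧸ Subgroup.center X, FreeGroup.lift f w ≠ 1 := by
  obtain ⟨f, -, hf⟩ := exists_noncommuting w hw hF
  refine ⟨fun i => QuotientGroup.mk' _ (ψ (f i)), fun h => hf ?_⟩
  have h2 : ((QuotientGroup.mk' (Subgroup.center X)).comp ψ).comp (FreeGroup.lift f) =
      FreeGroup.lift fun i => QuotientGroup.mk' _ (ψ (f i)) := FreeGroup.ext_hom _ _ fun i => by simp
  rw [← h2] at h
  have h3 : ψ (FreeGroup.lift f w) ∈ Subgroup.center X := by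
    simpa [QuotientGroup.eq_one_iff] using h
  exact hψ (by simpa [map_mul] using (Subgroup.mem_center_iff.1 h3 (ψ (f (fresh w)))).symm)

/-- `w` fails in `[X,X] / Z([X,X])` when `X` contains `SL₂` over a large field. -/
theorem not_law_commutator [Fintype F] (w : FreeGroup ℕ) (hw : w ≠ 1) (hF : sl2Bound w < Fintype.card F)
    {X : Type*} [Group X] (ψ : SL2 F →* X) (hψ : Function.Injective ψ) :
    ∃ f : ℕ → ↥(commutator X) ⧸ Subgroup.center ↥(commutator X), FreeGroup.lift f w ≠ 1 := by
  obtain ⟨f, hmem, hf⟩ := exists_noncommuting w hw hF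
  let f' : ℕ → ↥(commutator X) := fun i => ⟨ψ (f i), by
    have := Subgroup.mem_map_of_mem ψ (hmem i)
    rw [commutator_def, Subgroup.map_commutator] at this
    exact Subgroup.commutator_mono le_top le_top this⟩
  refine ⟨fun i => QuotientGroup.mk' _ (f' i), fun h => hf ?_⟩
  have h2 : (QuotientGroup.mk' (Subgroup.center ↥(commutator X))).comp (FreeGroup.lift f') =
      FreeGroup.lift fun i => QuotientGroup.mk' _ (f' i) := FreeGroup.ext_hom _ _ fun i => by simp
  have h4 : (Subgroup.subtype (commutator X)).comp (FreeGroup.lift f') = ψ.comp (FreeGroup.lift f) :=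
    FreeGroup.ext_hom _ _ fun i => by simp [f']
  rw [← h2] at h
  have h3 : FreeGroup.lift f' w ∈ Subgroup.center ↥(commutator X) := by
    simpa [QuotientGroup.eq_one_iff] using h
  have h5 := congrArg Subtype.val (Subgroup.mem_center_iff.1 h3 (f' (fresh w)))
  have h6 : ((FreeGroup.lift f' w : ↥(commutator X)) : X) = ψ (FreeGroup.lift f w) :=
    DFunLike.congr_fun h4 w
  simp only [Subgroup.coe_mul, h6, f'] at h5
  exact hψ (by simpa [map_mul] using h5.symm)

end

/-- A prime beyond the bound of `w`. -/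
noncomputable def lawPrime (w : FreeGroup ℕ) : ℕ :=
  (Nat.exists_infinite_primes (sl2Bound w + 1)).choose

theorem lawPrime_spec (w : FreeGroup ℕ) : sl2Bound w + 1 ≤ lawPrime w ∧ (lawPrime w).Prime :=
  (Nat.exists_infinite_primes (sl2Bound w + 1)).choose_spec

instance fact_lawPrime (w : FreeGroup ℕ) : Fact (lawPrime w).Prime := ⟨(lawPrime_spec w).2⟩

/-- The doubled regular representation, a finite group inside an alternating group. -/
theorem exists_embedding_alternating (H : Type*) [Group H] [Finite H] (n : ℕ) (hn : 2 * Nat.card H ≤ n) :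
    ∃ ψ : H →* alternatingGroup (Fin n), Function.Injective ψ := by
  classical
  haveI := Fintype.ofFinite H
  let e : (H ⊕ H) ↪ Fin n :=
    (Fintype.equivFin (H ⊕ H)).toEmbedding.trans (Fin.castLEEmb (by
      rw [Fintype.card_sum, ← Nat.card_eq_fintype_card]; omega))
  let r : H →* Equiv.Perm (H ⊕ H) :=
    (Equiv.Perm.sumCongrHom H H).comp ((MulAction.toPermHom H H).prod (MulAction.toPermHom H H))
  let r' : H →* Equiv.Perm (Fin n) := (Equiv.Perm.viaEmbeddingHom e).comp r
  have hr : ∀ h, r' h ∈ alternatingGroup (Fin n) := by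
    intro h
    rw [Equiv.Perm.mem_alternatingGroup]
    simp only [r', r, MonoidHom.comp_apply, Equiv.Perm.viaEmbeddingHom_apply,
      Equiv.Perm.viaEmbedding, Equiv.Perm.sign_extendDomain]
    simp
  refine ⟨r'.codRestrict _ hr, fun a b hab => ?_⟩
  have h1 : r a = r b := Equiv.Perm.viaEmbeddingHom_injective e (congrArg Subtype.val hab)
  have h2 := congrFun (congrArg DFunLike.coe h1) (Sum.inl 1)
  simpa [r] using h2

/-- The degree from which alternating groups contain `SL₂` over `ZMod (lawPrime w)`. -/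
noncomputable def altBound (w : FreeGroup ℕ) : ℕ :=
  2 * Nat.card (Matrix.SpecialLinearGroup (Fin 2) (ZMod (lawPrime w))) + 5

theorem altBound_embedding (w : FreeGroup ℕ) (n : ℕ) (hn : altBound w ≤ n) :
    ∃ ψ : Matrix.SpecialLinearGroup (Fin 2) (ZMod (lawPrime w)) →* alternatingGroup (Fin n),
      Function.Injective ψ :=
  exists_embedding_alternating _ n (by unfold altBound at hn; omega)

theorem sl2Bound_lt_card (w : FreeGroup ℕ) : sl2Bound w < Fintype.card (ZMod (lawPrime w)) := by
  rw [ZMod.card]; exact (lawPrime_spec w).1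

/-- A non-trivial word is not a law in large alternating groups. -/
theorem not_law_alternating (w : FreeGroup ℕ) (hw : w ≠ 1) (n : ℕ) (hn : altBound w ≤ n) :
    ∃ f : ℕ → alternatingGroup (Fin n), FreeGroup.lift f w ≠ 1 := by
  obtain ⟨ψ, hψ⟩ := altBound_embedding w n hn
  obtain ⟨f, -, hf⟩ := exists_noncommuting w hw (sl2Bound_lt_card w)
  refine ⟨fun i => ψ (f i), fun h => hf ?_⟩
  have : ψ.comp (FreeGroup.lift f) = FreeGroup.lift fun i => ψ (f i) :=
    FreeGroup.ext_hom _ _ fun i => by simp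
  rw [← this, MonoidHom.comp_apply, ← ψ.map_one] at h
  rw [hψ h]
  exact Commute.one_left _

end Cfsg.Agent.Lib.Laws
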